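/-
Weights of a finite abelian group of invertible order acting on a vector space, for lower bounds on the degrees
of representations.
-/
import Mathlib.LinearAlgebra.Eigenspace.Triangularizable
import Mathlib.LinearAlgebra.Matrix.ToLin
import Mathlib.LinearAlgebra.Matrix.GeneralLinearGroup.Defs
import Mathlib.LinearAlgebra.LinearIndependent.Lemmas
import Mathlib.Algebra.Group.AddChar
import Mathlib.FieldTheory.IsAlgClosed.AlgebraicClosure
import Mathlib.GroupTheory.OrderOfElement

set_option autoImplicit false
set_option linter.unusedSectionVars false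

namespace CfsgLib.CharOrbit

open scoped MatrixGroups

section Weights

variable {A : Type*} [CommGroup A] {L : Type*} [Field L] {W : Type*} [AddCommGroup W] [Module L W]

/-- `χ` is a weight of the representation `ρ`: some non-zero vector is a common eigenvector with these eigenvalues. -/
def IsWeight (ρ : A →* Module.End L W) (χ : A → L) : Prop :=
  ∃ v : W, v ≠ 0 ∧ ∀ a, ρ a v = χ a • v

/-- Distinct weights have linearly independent eigenvectors, so there are at most `finrank` of them. -/
theorem card_weights_le [FiniteDimensional L W] (ρ : A →* Module.End L W) (S : Finset (A → L))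
    (h : ∀ χ ∈ S, IsWeight ρ χ) : S.card ≤ Module.finrank L W := by
  classical
  choose v hv0 hv using h
  have key : ∀ T : Finset (A → L), (hT : T ⊆ S) → ∀ c : (A → L) → L,
      (∑ χ ∈ T.attach, c χ.1 • v χ.1 (hT χ.2)) = 0 → ∀ χ ∈ T, c χ = 0 := by
    intro T
    induction T using Finset.induction_on with
    | empty => intro _ c _ χ hχ; exact absurd hχ (Finset.notMem_empty χ)
    | insert χ₀ T hχ₀ ih =>
      intro hT c hc
      let w : (A → L) → W := fun χ => if h : χ ∈ S then v χ h else 0
      have hw : ∀ χ ∈ S, ∀ a, ρ a (w χ) = χ a • w χ := fun χ hχ a => by simp [w, hχ, hv]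
      have hsum : ∑ χ ∈ insert χ₀ T, c χ • w χ = 0 := by
        rw [← Finset.sum_attach]
        convert hc using 1
        exact Finset.sum_congr rfl fun χ _ => by simp [w, hT χ.2]
      have hT' : T ⊆ S := (Finset.subset_insert _ _).trans hT
      have hrest : ∀ χ ∈ T, c χ = 0 := by
        intro χ hχ
        obtain ⟨a, ha⟩ := Function.ne_iff.1 (show χ ≠ χ₀ from fun h => hχ₀ (h ▸ hχ))
        have h2 := congr_arg (⇑(ρ a - χ₀ a • (LinearMap.id : W →ₗ[L] W) : W →ₗ[L] W)) hsum
        rw [map_zero, map_sum, Finset.sum_insert hχ₀] at h2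
        have h0 : (ρ a - χ₀ a • (LinearMap.id : W →ₗ[L] W) : W →ₗ[L] W) (c χ₀ • w χ₀) = 0 := by
          simp [hw χ₀ (hT (Finset.mem_insert_self _ _)), smul_comm (c χ₀)]
        rw [h0, zero_add] at h2
        have := ih hT' (fun ψ => c ψ * (ψ a - χ₀ a)) (by
          rw [← Finset.sum_attach] at h2
          convert h2 using 1
          refine Finset.sum_congr rfl fun ψ _ => ?_
          have hψ := hw ψ.1 (hT' ψ.2) a
          simp only [w, hT' ψ.2, dif_pos] at hψ
          simp only [w, hT' ψ.2, dif_pos, LinearMap.sub_apply, LinearMap.smul_apply, LinearMap.id_apply,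
            map_smul, hψ, ← smul_sub, ← sub_smul, mul_smul]) χ hχ
        exact (mul_eq_zero.1 this).resolve_right (sub_ne_zero.2 ha)
      intro χ hχ
      rcases Finset.mem_insert.1 hχ with rfl | hχ
      · rw [Finset.sum_insert hχ₀, Finset.sum_eq_zero (fun ψ hψ => by simp [hrest ψ hψ]), add_zero,
          smul_eq_zero] at hsum
        refine hsum.resolve_right ?_
        simp [w, hT (Finset.mem_insert_self _ _), hv0]
      · exact hrest χ hχ
  have hli : LinearIndependent L (fun χ : S => v χ.1 χ.2) := by
    rw [Fintype.linearIndependent_iff]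
    intro g hg χ
    have := key S subset_rfl (fun ψ => if h : ψ ∈ S then g ⟨ψ, h⟩ else 0) (by
      rw [← hg, ← Finset.univ_eq_attach]
      exact Finset.sum_congr rfl fun ψ _ => by simp) χ.1 χ.2
    simpa using this
  simpa using hli.fintype_card_le_finrank

/-- A conjugation sends weights to weights. -/
theorem isWeight_conj {ρ : A →* Module.End L W} {χ : A → L} (h : IsWeight ρ χ) (X : W ≃ₗ[L] W)
    (σ : A → A) (hX : ∀ a v, X (ρ (σ a) v) = ρ a (X v)) : IsWeight ρ (χ ∘ σ) := by
  obtain ⟨v, hv0, hv⟩ := h
  exact ⟨X v, by simpa using hv0, fun a => by rw [← hX, hv, map_smul]; rfl⟩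

theorem map_mul_of_isWeight {ρ : A →* Module.End L W} {χ : A → L} (h : IsWeight ρ χ) (a b : A) :
    χ (a * b) = χ a * χ b := by
  obtain ⟨v, hv0, hv⟩ := h
  refine smul_left_injective L hv0 ?_
  simp only
  rw [← hv, map_mul, Module.End.mul_apply, hv b, map_smul, hv a, smul_smul, mul_comm]

theorem map_one_of_isWeight {ρ : A →* Module.End L W} {χ : A → L} (h : IsWeight ρ χ) : χ 1 = 1 := by
  obtain ⟨v, hv0, hv⟩ := h
  refine smul_left_injective L hv0 ?_
  simp only
  rw [← hv, map_one, Module.End.one_apply, one_smul]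

/-- An element acting non-trivially has a non-trivial value at some weight. -/
theorem exists_weight [IsAlgClosed L] [FiniteDimensional L W] [Finite A]
    (hA : (Nat.card A : L) ≠ 0) (ρ : A →* Module.End L W) {a : A} (ha : ρ a ≠ 1) :
    ∃ χ, IsWeight ρ χ ∧ χ a ≠ 1 := by
  classical
  let N := LinearMap.range (ρ a - 1)
  have hN : N ≠ ⊥ := by
    simpa [N, LinearMap.range_eq_bot, sub_eq_zero] using ha
  have hcomm : ∀ x y : A, ρ x * ρ y = ρ y * ρ x := fun x y => by rw [← map_mul, ← map_mul, mul_comm]
  have hmin : ∃ (d : ℕ) (U : Submodule L W), Module.finrank L U = d ∧ U ≠ ⊥ ∧ U ≤ N ∧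
      ∀ b, U.map (ρ b) ≤ U := by
    refine ⟨_, N, rfl, hN, le_rfl, fun b => ?_⟩
    rintro _ ⟨_, ⟨v, rfl⟩, rfl⟩
    refine ⟨ρ b v, ?_⟩
    change ((ρ a - 1) * ρ b) v = (ρ b * (ρ a - 1)) v
    rw [sub_mul, mul_sub, hcomm, one_mul, mul_one]
  obtain ⟨U, hUd, hU0, hUN, hUinv⟩ := Nat.find_spec hmin
  have hscal : ∀ b, ∃ c : L, ∀ v ∈ U, ρ b v = c • v := by
    intro b
    have : Nontrivial U := Submodule.nontrivial_iff_ne_bot.2 hU0
    let f : Module.End L U := (ρ b).restrict fun v hv => hUinv b ⟨v, hv, rfl⟩
    obtain ⟨c, hc⟩ := Module.End.exists_eigenvalue f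
    obtain ⟨v, hv⟩ := hc.exists_hasEigenvector
    refine ⟨c, ?_⟩
    let E := U ⊓ Module.End.eigenspace (ρ b) c
    have hE0 : E ≠ ⊥ := by
      rw [Submodule.ne_bot_iff]
      refine ⟨v.1, ⟨v.2, Module.End.mem_eigenspace_iff.2 ?_⟩, by simpa using hv.2⟩
      exact congr_arg Subtype.val hv.apply_eq_smul
    have hEinv : ∀ x, E.map (ρ x) ≤ E := by
      intro x
      rintro _ ⟨u, ⟨hu1, hu2⟩, rfl⟩
      refine ⟨hUinv x ⟨u, hu1, rfl⟩, Module.End.mem_eigenspace_iff.2 ?_⟩
      change (ρ b * ρ x) u = c • ρ x u
      rw [hcomm, Module.End.mul_apply, Module.End.mem_eigenspace_iff.1 hu2, map_smul]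
    have hEU : E = U := Submodule.eq_of_le_of_finrank_le inf_le_left (by
      have h1 := Nat.find_min' hmin ⟨E, rfl, hE0, inf_le_left.trans hUN, hEinv⟩
      omega)
    exact fun u hu => Module.End.mem_eigenspace_iff.1 (hEU.ge hu : u ∈ E).2
  choose χ hχ using hscal
  obtain ⟨v, hvU, hv0⟩ := U.ne_bot_iff.1 hU0
  refine ⟨χ, ⟨v, hv0, fun b => hχ b v hvU⟩, fun h1 => hv0 ?_⟩
  obtain ⟨x, hx⟩ := hUN hvU
  have hfix : ρ a v = v := by rw [hχ a v hvU, h1, one_smul]
  have hax : ρ a x = x + v := by rw [← hx]; simp
  have hpow : ∀ m : ℕ, (ρ a ^ m) x = x + (m : L) • v := by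
    intro m
    induction m with
    | zero => simp
    | succ m ih =>
      rw [pow_succ', Module.End.mul_apply, ih, map_add, map_smul, hfix, hax]
      push_cast
      rw [add_smul, one_smul, add_assoc, add_comm v]
  have h := hpow (Nat.card A)
  rw [← map_pow, pow_card_eq_one', map_one, Module.End.one_apply, left_eq_add, smul_eq_zero] at h
  exact h.resolve_left hA

end Weights

section Chars

variable {V : Type*} [AddCommGroup V] [Finite V] {L : Type*} [Field L]

/-- There are at most `|V|` additive characters of `V` with values in a field. -/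
theorem natCard_addChar_le : Nat.card (AddChar V L) ≤ Nat.card V ∧ Finite (AddChar V L) := by
  classical
  cases nonempty_fintype V
  have li : LinearIndependent L (fun ψ : AddChar V L => (⇑ψ.toMonoidHom : Multiplicative V → L)) :=
    (linearIndependent_monoidHom (Multiplicative V) L).comp _ fun a b h => by
      ext x; exact DFunLike.congr_fun h (Multiplicative.ofAdd x)
  have := li.finite
  refine ⟨?_, this⟩
  cases nonempty_fintype (AddChar V L)
  simpa [Nat.card_eq_fintype_card] using li.fintype_card_le_finrank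

/-- A family of `|V|` distinct characters contains all characters. -/
theorem exists_eq_of_injective {ι : Type*} [Finite ι] (hι : Nat.card V ≤ Nat.card ι)
    (f : ι → AddChar V L) (hf : Function.Injective f) (χ : AddChar V L) : ∃ i, f i = χ := by
  obtain ⟨hle, hfin⟩ := natCard_addChar_le (V := V) (L := L)
  exact (hf.bijective_of_nat_card_le (by omega)).2 χ

variable {m : ℕ}

/-- Over a finite field, every character of a coordinate space is `t ↦ ψ (w · t)`. -/
theorem exists_eq_dotChar {F : Type*} [Field F] [Finite F] (ψ : AddChar F L) (hψ : ψ ≠ 1)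
    (χ : AddChar (Fin m → F) L) : ∃ w : Fin m → F, ∀ t, χ t = ψ (w ⬝ᵥ t) := by
  let f : (Fin m → F) → AddChar (Fin m → F) L := fun w =>
    { toFun := fun t => ψ (w ⬝ᵥ t)
      map_zero_eq_one' := by simp
      map_add_eq_mul' := fun s t => by simp [dotProduct_add, AddChar.map_add_eq_mul] }
  have hf : Function.Injective f := by
    intro w w' h
    by_contra hne
    obtain ⟨j, hj⟩ := Function.ne_iff.1 hne
    obtain ⟨s, hs⟩ := AddChar.ne_one_iff.1 hψ
    refine hs ?_
    have := DFunLike.congr_fun h (Pi.single j (s / (w j - w' j)))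
    change ψ _ = ψ _ at this
    rw [dotProduct_single, dotProduct_single] at this
    have e : s = w j * (s / (w j - w' j)) - w' j * (s / (w j - w' j)) := by
      field_simp [sub_ne_zero.2 hj]
    rw [e, sub_eq_add_neg, AddChar.map_add_eq_mul, this, ← AddChar.map_add_eq_mul, add_neg_cancel,
      AddChar.map_zero_eq_one]
  obtain ⟨w, hw⟩ := exists_eq_of_injective le_rfl f hf χ
  exact ⟨w, fun t => (DFunLike.congr_fun hw t).symm⟩

end Chars

section Matrices

variable {G : Type*} [Group G] {K : Type*} [Field K] {d : ℕ}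

/-- Matrices acting on the coordinate space over an algebraic closure. -/
noncomputable def matrixEnd (K : Type*) [Field K] (d : ℕ) :
    Matrix (Fin d) (Fin d) K →* Module.End (AlgebraicClosure K) (Fin d → AlgebraicClosure K) where
  toFun M := Matrix.toLinAlgEquiv' (M.map (algebraMap K (AlgebraicClosure K)))
  map_one' := by rw [Matrix.map_one _ (map_zero _) (map_one _), map_one]
  map_mul' M N := by rw [Matrix.map_mul, map_mul]

theorem matrixEnd_injective : Function.Injective (matrixEnd K d) := fun _ _ h =>
  Matrix.map_injective (algebraMap K (AlgebraicClosure K)).injective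
    (Matrix.toLinAlgEquiv'.injective h)

/-- A matrix representation seen over an algebraic closure. -/
noncomputable def closureEnd (ρ : G →* GL (Fin d) K) :
    G →* Module.End (AlgebraicClosure K) (Fin d → AlgebraicClosure K) :=
  (matrixEnd K d).comp ((Units.coeHom _).comp ρ)

theorem closureEnd_injective (ρ : G →* GL (Fin d) K) {g : G} :
    closureEnd ρ g = 1 ↔ ρ g = 1 := by
  refine ⟨fun h => Units.ext (matrixEnd_injective (h.trans (map_one (matrixEnd K d)).symm)),
    fun h => ?_⟩
  simp [closureEnd, h]

/-- The automorphism attached to a group element. -/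
noncomputable def closureEquiv (ρ : G →* GL (Fin d) K) (g : G) :
    (Fin d → AlgebraicClosure K) ≃ₗ[AlgebraicClosure K] (Fin d → AlgebraicClosure K) :=
  LinearMap.GeneralLinearGroup.toLinearEquiv (Units.map (closureEnd ρ) (toUnits g))

theorem closureEquiv_apply (ρ : G →* GL (Fin d) K) (g : G) (v : Fin d → AlgebraicClosure K) :
    closureEquiv ρ g v = closureEnd ρ g v := rfl

/-- A normalising element permutes the weights. -/
theorem isWeight_conj_group {A : Type*} [CommGroup A] (ι : A →* G) (ρ : G →* GL (Fin d) K)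
    {χ : A → AlgebraicClosure K} (h : IsWeight ((closureEnd ρ).comp ι) χ) (x : G) (σ : A → A)
    (hx : ∀ a, x * ι (σ a) = ι a * x) : IsWeight ((closureEnd ρ).comp ι) (χ ∘ σ) := by
  refine isWeight_conj h (closureEquiv ρ x) σ fun a v => ?_
  rw [closureEquiv_apply, closureEquiv_apply, MonoidHom.comp_apply, MonoidHom.comp_apply,
    ← Module.End.mul_apply, ← Module.End.mul_apply, ← map_mul, ← map_mul, hx]

end Matrices

end CfsgLib.CharOrbit
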